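import Groth.Prelude.Def_CohB1

/-!
# Standard charts of projective space: homogeneous coordinates of points
-/

set_option autoImplicit false

noncomputable section

universe u

open CategoryTheory CategoryTheory.Limits AlgebraicGeometry HomogeneousLocalization MvPolynomial

namespace Groth.Agent.Lib.AVEmb92.Chart

variable {n : ℕ} {k : Type u} [CommRing k]

/-- The degree-zero localization at a variable. -/
abbrev AW (k : Type u) [CommRing k] (n : ℕ) (m : Fin (n + 1)) : Type u :=
  Away (CohB1.polyGrading n k) (X m : MvPolynomial (Fin (n + 1)) k)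

lemma X_mem (l : Fin (n + 1)) : (X l : MvPolynomial (Fin (n + 1)) k) ∈ CohB1.polyGrading n k 1 :=
  (mem_homogeneousSubmodule 1 _).2 (isHomogeneous_X k l)

/-- The coordinate `X l / X m`. -/
def co (m l : Fin (n + 1)) : AW k n m :=
  Away.mk (CohB1.polyGrading n k) (X_mem m) 1 (X l) (by simpa using X_mem l)

/-- The constants. -/
def cst (m : Fin (n + 1)) : k →+* AW k n m :=
  (fromZeroRingHom (CohB1.polyGrading n k) (Submonoid.powers (X m))).comp
    (algebraMap k (CohB1.polyGrading n k 0))

/-- Evaluation of polynomials at the coordinates of a chart. -/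
def ev (m : Fin (n + 1)) : MvPolynomial (Fin (n + 1)) k →+* AW k n m :=
  eval₂Hom (cst m) (co m)

lemma cst_val (m : Fin (n + 1)) (c : k) :
    (cst m c).val = algebraMap (MvPolynomial (Fin (n + 1)) k)
      (Localization.Away (X m : MvPolynomial (Fin (n + 1)) k)) (C c) := by
  rw [← Localization.mk_one_eq_algebraMap]
  rfl

lemma co_val_mul (m l : Fin (n + 1)) :
    (co (k := k) m l).val * algebraMap (MvPolynomial (Fin (n + 1)) k)
        (Localization.Away (X m : MvPolynomial (Fin (n + 1)) k)) (X m) =
      algebraMap (MvPolynomial (Fin (n + 1)) k) _ (X l) := by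
  rw [co, Away.val_mk, Localization.mk_eq_mk']
  simp only [pow_one]
  exact IsLocalization.mk'_spec _ (X l) (⟨X m, 1, pow_one _⟩ : Submonoid.powers (X m : MvPolynomial (Fin (n + 1)) k))

lemma ev_surjective (m : Fin (n + 1)) : Function.Surjective (ev (k := k) m) := by
  intro z
  obtain ⟨d, a, ha, rfl⟩ := Away.mk_surjective (CohB1.polyGrading n k) (X_mem m) z
  refine ⟨a, HomogeneousLocalization.val_injective _ ?_⟩
  let L := Localization.Away (X m : MvPolynomial (Fin (n + 1)) k)
  let V : MvPolynomial (Fin (n + 1)) k →+* L :=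
    (algebraMap (AW k n m) L).comp (ev m)
  change V a = _
  have hu : IsUnit (algebraMap (MvPolynomial (Fin (n + 1)) k) L (X m)) :=
    IsLocalization.Away.algebraMap_isUnit _
  refine (hu.pow d).mul_right_cancel ?_
  have key : ∀ b : MvPolynomial (Fin (n + 1)) k, b.IsHomogeneous d →
      V b * algebraMap (MvPolynomial (Fin (n + 1)) k) L (X m) ^ d = algebraMap (MvPolynomial (Fin (n + 1)) k) L b := by
    intro b hb
    conv_lhs => rw [b.as_sum]
    conv_rhs => rw [b.as_sum]
    rw [map_sum, map_sum, Finset.sum_mul]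
    refine Finset.sum_congr rfl fun s hs => ?_
    have hd : s.sum (fun _ e => e) = d := by
      have := hb (mem_support_iff.1 hs)
      simpa [Finsupp.weight_apply] using this
    rw [monomial_eq, map_mul, map_mul, map_finsuppProd, map_finsuppProd]
    have hC : ∀ c : k, V (C c) = algebraMap (MvPolynomial (Fin (n + 1)) k) L (C c) := fun c => by
      change (ev m (C c)).val = _
      rw [ev, eval₂Hom_C]
      exact cst_val m c
    rw [hC, mul_assoc]
    congr 1
    rw [← hd, Finsupp.sum, ← Finset.prod_pow_eq_pow_sum, Finsupp.prod, Finsupp.prod,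
      ← Finset.prod_mul_distrib]
    refine Finset.prod_congr rfl fun l _ => ?_
    rw [map_pow, map_pow, ← mul_pow]
    congr 1
    change (ev m (X l)).val * _ = _
    rw [ev, eval₂Hom_X']
    exact co_val_mul m l
  rw [key a ((mem_homogeneousSubmodule d a).1 (by simpa using ha)), Away.val_mk,
    Localization.mk_eq_mk', ← map_pow]
  exact (IsLocalization.mk'_spec' L a (⟨X m ^ d, d, rfl⟩ : Submonoid.powers (X m))).symm.trans
    (mul_comm _ _)

lemma hom_ext {B : Type u} [CommRing B] {m : Fin (n + 1)} {φ ψ : AW k n m →+* B}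
    (hc : ∀ c, φ (cst m c) = ψ (cst m c)) (h : ∀ l, φ (co m l) = ψ (co m l)) : φ = ψ := by
  refine (RingHom.cancel_right (ev_surjective m)).1 (MvPolynomial.ringHom_ext (fun c => ?_) fun l => ?_)
  · simpa [ev] using hc c
  · simpa [ev] using h l

lemma co_self (m : Fin (n + 1)) : co (k := k) m m = 1 := by
  refine HomogeneousLocalization.val_injective _ ?_
  rw [co, Away.val_mk, HomogeneousLocalization.val_one]
  simp only [pow_one]
  exact Localization.mk_self (⟨X m, 1, pow_one _⟩ : Submonoid.powers (X m : MvPolynomial (Fin (n + 1)) k))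

/-- The chart. -/
abbrev ι (m : Fin (n + 1)) : Spec (CommRingCat.of (AW k n m)) ⟶ Proj (CohB1.polyGrading n k) :=
  Proj.awayι (CohB1.polyGrading n k) (X m) (X_mem m) one_pos

/-- A point with values in a chart. -/
def IsLift {B : Type u} [CommRing B] (w : Spec (CommRingCat.of B) ⟶ Proj (CohB1.polyGrading n k))
    (m : Fin (n + 1)) (φ : AW k n m →+* B) : Prop :=
  Spec.map (CommRingCat.ofHom φ) ≫ ι m = w

namespace IsLift

variable {B B' : Type u} [CommRing B] [CommRing B'] {w : Spec (CommRingCat.of B) ⟶ Proj (CohB1.polyGrading n k)}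
  {m i : Fin (n + 1)} {φ ψ : AW k n m →+* B}

lemma map (h : IsLift w m φ) (χ : B →+* B') :
    IsLift (Spec.map (CommRingCat.ofHom χ) ≫ w) m (χ.comp φ) := by
  rw [IsLift, CommRingCat.ofHom_comp, Spec.map_comp, Category.assoc, h]

lemma unique (h : IsLift w m φ) (h' : IsLift w m ψ) : φ = ψ := by
  have := (cancel_mono (ι (k := k) m)).1 (h.trans h'.symm)
  exact congrArg CommRingCat.Hom.hom (Spec.map_injective this)

lemma exists_of_range (hw : Set.range w ⊆ ((Proj.basicOpen (CohB1.polyGrading n k) (X m) :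
      (Proj (CohB1.polyGrading n k)).Opens) : Set (Proj (CohB1.polyGrading n k)))) :
    ∃ φ : AW k n m →+* B, IsLift w m φ := by
  have hr : Set.range w ⊆ Set.range (ι (k := k) m) := by
    refine hw.trans (le_of_eq ?_)
    exact (congrArg (fun U : (Proj (CohB1.polyGrading n k)).Opens => (U : Set (Proj (CohB1.polyGrading n k))))
      (Proj.opensRange_awayι _ _ (X_mem m) one_pos)).symm
  obtain ⟨φ, hφ⟩ := Spec.map_surjective (IsOpenImmersion.lift (ι m) w hr)
  refine ⟨φ.hom, ?_⟩
  rw [IsLift]
  change Spec.map φ ≫ ι m = w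
  rw [hφ, IsOpenImmersion.lift_fac]

lemma cst_eq (h : IsLift w m φ) {σ : k →+* B}
    (hw : w ≫ Proj.toSpecZero (CohB1.polyGrading n k) ≫
      Spec.map (CommRingCat.ofHom (algebraMap k (CohB1.polyGrading n k 0))) = Spec.map (CommRingCat.ofHom σ))
    (c : k) :
    φ (cst m c) = σ c := by
  rw [← h, Category.assoc, Proj.awayι_toSpecZero_assoc,
    ← Spec.map_comp, ← Spec.map_comp] at hw
  exact RingHom.congr_fun (congrArg CommRingCat.Hom.hom (Spec.map_injective hw)) c

/-- Change of chart. -/
lemma co_mul {ψ : AW k n i →+* B} (h : IsLift w m φ) (h' : IsLift w i ψ) (l : Fin (n + 1)) :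
    ψ (co i l) * φ (co m i) = φ (co m l) := by
  let χ₀ := pullback.lift (Spec.map (CommRingCat.ofHom φ)) (Spec.map (CommRingCat.ofHom ψ))
    (h.trans h'.symm) ≫
    (Proj.pullbackAwayιIso (CohB1.polyGrading n k) (X_mem m) one_pos (X_mem i) one_pos
      (x := X m * X i) rfl).hom
  obtain ⟨χ, hχ⟩ := Spec.map_surjective χ₀
  have e1 : φ = χ.hom.comp (awayMap (CohB1.polyGrading n k) (X_mem i) (x := X m * X i) rfl) := by
    have : Spec.map (CommRingCat.ofHom φ) = Spec.map (CommRingCat.ofHom
        (awayMap (CohB1.polyGrading n k) (X_mem i) (x := X m * X i) rfl) ≫ χ) := by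
      rw [Spec.map_comp, hχ, Category.assoc, Proj.pullbackAwayιIso_hom_SpecMap_awayMap_left,
        pullback.lift_fst]
    exact congrArg CommRingCat.Hom.hom (Spec.map_injective this)
  have e2 : ψ = χ.hom.comp
      (awayMap (CohB1.polyGrading n k) (X_mem m) (x := X m * X i) (mul_comm _ _)) := by
    have : Spec.map (CommRingCat.ofHom ψ) = Spec.map (CommRingCat.ofHom
        (awayMap (CohB1.polyGrading n k) (X_mem m) (x := X m * X i) (mul_comm _ _)) ≫ χ) := by
      rw [Spec.map_comp, hχ, Category.assoc, Proj.pullbackAwayιIso_hom_SpecMap_awayMap_right,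
        pullback.lift_snd]
    exact congrArg CommRingCat.Hom.hom (Spec.map_injective this)
  rw [e1, e2]
  simp only [RingHom.comp_apply]
  rw [← map_mul]
  congr 1
  refine HomogeneousLocalization.val_injective _ ?_
  simp only [co, awayMap_mk, HomogeneousLocalization.val_mul, Away.val_mk, Localization.mk_mul]
  rw [Localization.mk_eq_mk_iff, Localization.r_iff_exists]
  refine ⟨1, ?_⟩
  simp only [OneMemClass.coe_one, one_mul, Submonoid.coe_mul, pow_one]
  ring

end IsLift

/-- A point with values in a local ring lies in a chart. -/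
lemma exists_lift {B : Type u} [CommRing B] [IsLocalRing B]
    (w : Spec (CommRingCat.of B) ⟶ Proj (CohB1.polyGrading n k)) :
    ∃ (m : Fin (n + 1)) (φ : AW k n m →+* B), IsLift w m φ := by
  have hcov : ⨆ l : Fin (n + 1), Proj.basicOpen (CohB1.polyGrading n k) (X l) = ⊤ := by
    refine Proj.iSup_basicOpen_eq_top' (CohB1.polyGrading n k) _
      (fun l => ⟨1, X_mem l⟩) ?_
    refine eq_top_iff.2 fun p hp => ?_
    clear hp
    induction p using MvPolynomial.induction_on with
    | C c => exact Subalgebra.algebraMap_mem _ (algebraMap k (CohB1.polyGrading n k 0) c)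
    | add a b ha hb => exact add_mem ha hb
    | mul_X a l ha => exact mul_mem ha (Algebra.subset_adjoin ⟨l, rfl⟩)
  obtain ⟨m, hm⟩ := TopologicalSpace.Opens.mem_iSup.1
    (hcov.symm ▸ TopologicalSpace.Opens.mem_top (w (IsLocalRing.closedPoint B)))
  have hall : w ⁻¹ᵁ Proj.basicOpen (CohB1.polyGrading n k) (X m) = ⊤ :=
    (IsLocalRing.closedPoint_mem_iff _).1 hm
  refine ⟨m, IsLift.exists_of_range ?_⟩
  rintro _ ⟨p, rfl⟩
  show p ∈ w ⁻¹ᵁ Proj.basicOpen (CohB1.polyGrading n k) (X m)
  rw [hall]
  exact trivial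

end Groth.Agent.Lib.AVEmb92.Chart
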