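import Groth.Agent.Lib.AVEmb92.Sq
import Groth.Agent.HT92.Tangent
import Groth.Agent.S0354
import Mathlib.AlgebraicGeometry.Morphisms.Proper
import Mathlib.RingTheory.RegularLocalRing.Defs

/-!
# Left-invariant tangent frames on a group scheme over a field
-/

set_option autoImplicit false

noncomputable section

universe u

open CategoryTheory CategoryTheory.Limits MonoidalCategory CartesianMonoidalCategory MonObj GrpObj
  AlgebraicGeometry

namespace Groth.Agent.Lib.AVEmb92.Tangent

open Sq

variable {k : Type u} [Field k] {A B C : Type u} [CommRing A] [CommRing B] [CommRing C]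

/-- The spectrum of a ring under `k`. -/
abbrev SP (σ : k →+* A) : Over (Spec (CommRingCat.of k)) := Over.mk (Spec.map (CommRingCat.ofHom σ))

/-- Functoriality of `SP`. -/
def mk {σ : k →+* A} {τ : k →+* B} (χ : A →+* B) (h : χ.comp σ = τ) : SP τ ⟶ SP σ :=
  Over.homMk (Spec.map (CommRingCat.ofHom χ)) (by
    change Spec.map _ ≫ Spec.map _ = Spec.map _
    rw [← Spec.map_comp, ← CommRingCat.ofHom_comp, h])

lemma mk_comp {σ : k →+* A} {τ : k →+* B} {ρ : k →+* C} (χ : A →+* B) (h : χ.comp σ = τ)
    (ψ : B →+* C) (h' : ψ.comp τ = ρ) :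
    mk ψ h' ≫ mk χ h = mk (ψ.comp χ) (by rw [RingHom.comp_assoc, h, h']) := by
  ext : 1
  simp [mk, Spec.map_comp]

lemma mk_congr {σ : k →+* A} {τ : k →+* B} {χ χ' : A →+* B} (h : χ.comp σ = τ) (h' : χ'.comp σ = τ)
    (e : χ = χ') : mk χ h = mk χ' h' := by subst e; rfl

lemma mk_id {σ : k →+* A} {χ : A →+* A} (h : χ.comp σ = σ) (e : χ = RingHom.id A) :
    mk χ h = 𝟙 (SP σ) := by
  subst e; ext : 1; simp [mk]

variable (X : Over (Spec (CommRingCat.of k))) [GrpObj X] {g : ℕ}

/-- The structure map of `A[V]`. -/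
abbrev sqσ (g : ℕ) (σ : k →+* A) : k →+* SQ A g := (incl g).comp σ

lemma map_sqσ {σ : k →+* A} {τ : k →+* B} (χ : A →+* B) (h : χ.comp σ = τ) :
    (Sq.map χ).comp (sqσ g σ) = sqσ g τ := by
  rw [← RingHom.comp_assoc, map_incl, RingHom.comp_assoc, h]

lemma map_sqσ' (σ : k →+* A) : (Sq.map σ).comp (sqσ g (RingHom.id k)) = sqσ g σ :=
  map_sqσ σ (RingHom.comp_id σ)

lemma contract_sqσ (σ : k →+* A) (c : Fin g → A) :
    (contract c).comp (sqσ g σ) = (TrivSqZeroExt.inlHom A A).comp σ := by
  ext a <;> simp [incl]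

lemma pr_sqσ (σ : k →+* A) : (pr g).comp (sqσ g σ) = σ := rfl

/-- A frame of tangent vectors at the origin. -/
structure Frame (g : ℕ) where
  v : SP (sqσ g (RingHom.id k)) ⟶ X
  zero : mk (pr g) (pr_sqσ (RingHom.id k)) ≫ v = 1
  indep : ∀ (L : Type u) [Field L] (σ : k →+* L) (c : Fin g → L),
    mk (σ := sqσ g (RingHom.id k)) ((contract c).comp (Sq.map σ))
      (by rw [RingHom.comp_assoc, map_sqσ', contract_sqσ]) ≫ v = 1 → c = 0

variable {X} (F : Frame X g)

/-- Translate of the frame to a point. -/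
def push {σ : k →+* A} (x : SP σ ⟶ X) : SP (sqσ g σ) ⟶ X :=
  (mk (incl g) rfl ≫ x) * (mk (Sq.map σ) (map_sqσ' σ) ≫ F.v)

lemma pr_push {σ : k →+* A} (x : SP σ ⟶ X) : mk (pr g) (pr_sqσ σ) ≫ push F x = x := by
  rw [push, MonObj.comp_mul, ← Category.assoc, ← Category.assoc, mk_comp, mk_comp,
    mk_id (χ := (pr g).comp (incl g)) _ (RingHom.ext fun a => rfl), Category.id_comp]
  have e : mk ((pr g).comp (Sq.map σ)) (by rw [RingHom.comp_assoc, map_sqσ']; exact pr_sqσ σ) =
      mk (τ := σ) σ (RingHom.comp_id σ) ≫ mk (pr g) (pr_sqσ (RingHom.id k)) := by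
    rw [mk_comp]
    exact mk_congr _ _ (pr_map σ)
  rw [e, Category.assoc, F.zero, MonObj.comp_one, _root_.mul_one]

lemma map_push {σ : k →+* A} {τ : k →+* B} (x : SP σ ⟶ X) (χ : A →+* B) (h : χ.comp σ = τ) :
    mk (Sq.map χ) (map_sqσ χ h) ≫ push F x = push F (mk χ h ≫ x) := by
  rw [push, push, MonObj.comp_mul, ← Category.assoc, ← Category.assoc, ← Category.assoc, mk_comp,
    mk_comp, mk_comp]
  congr 2
  · exact mk_congr _ _ (map_incl χ)
  · refine mk_congr _ _ ?_
    subst h
    ext a <;> simp

lemma eq_zero_of_contract {L : Type u} [Field L] {σ : k →+* L} (x : SP σ ⟶ X) (c : Fin g → L)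
    (h : mk (contract c) (contract_sqσ σ c) ≫ push F x =
      mk (TrivSqZeroExt.inlHom L L) rfl ≫ x) : c = 0 := by
  refine F.indep L σ c ?_
  rw [push, MonObj.comp_mul, ← Category.assoc, ← Category.assoc, mk_comp, mk_comp,
    mk_congr (χ := (contract c).comp (incl g)) (χ' := TrivSqZeroExt.inlHom L L) _ rfl
      (RingHom.ext fun a => by ext <;> simp [incl])] at h
  exact mul_eq_left.1 h

/-- A group scheme of dimension `g` has a frame of `g` tangent vectors. -/
theorem exists_frame (X : Over (Spec (CommRingCat.of k))) [GrpObj X] [LocallyOfFiniteType X.hom]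
    [IsSeparated X.hom] (g : ℕ) (hg : topologicalKrullDim X.left = g) : Nonempty (Frame X g) := by
  let e : Spec (CommRingCat.of k) ⟶ X.left := (η[X] : 𝟙_ _ ⟶ X).left
  have he : e ≫ X.hom = 𝟙 _ := Over.w (η[X] : 𝟙_ _ ⟶ X)
  have hone : ∀ {A : Type u} [CommRing A] (τ : k →+* A),
      (1 : SP τ ⟶ X).left = Spec.map (CommRingCat.ofHom τ) ≫ e := fun {A} _ τ => by
    rfl
  let p : X.left := e (IsLocalRing.closedPoint k)
  have hp : IsClosed ({p} : Set X.left) := by
    haveI : IsClosedImmersion (e ≫ X.hom) := he ▸ inferInstance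
    haveI := IsClosedImmersion.of_comp e X.hom
    have hr := e.isClosedEmbedding.isClosed_range
    have hs : Set.range e = {p} := by
      ext y
      constructor
      · rintro ⟨z, rfl⟩
        rw [Subsingleton.elim z (IsLocalRing.closedPoint k)]
        rfl
      · rintro rfl
        exact ⟨_, rfl⟩
    rwa [hs] at hr
  haveI : IsLocallyNoetherian X.left := LocallyOfFiniteType.isLocallyNoetherian X.hom
  obtain ⟨σO, hσO⟩ := Spec.map_surjective (X.left.fromSpecStalk p ≫ X.hom)
  let res := Scheme.stalkClosedPointTo e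
  have hres : ∀ c, res.hom (σO.hom c) = c := fun c => by
    have : Spec.map (σO ≫ res) = Spec.map (𝟙 (CommRingCat.of k)) := by
      rw [Spec.map_comp, hσO, ← Category.assoc, Scheme.Spec_stalkClosedPointTo_fromSpecStalk, he,
        Spec.map_id]
    exact RingHom.congr_fun (congrArg CommRingCat.Hom.hom (Spec.map_injective this)) c
  have hdim : ringKrullDim (X.left.presheaf.stalk p) = g :=
    (Groth.Agent.S0354.result k X p hp).trans hg
  have hle : g ≤ Module.finrank k (HT92.Tangent.tder σO.hom res.hom) := by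
    rw [← HT92.Tangent.finrank_tder hres, ← IsLocalRing.spanFinrank_maximalIdeal_eq_finrank_cotangentSpace]
    have := ringKrullDim_le_spanFinrank_maximalIdeal (X.left.presheaf.stalk p)
    rw [hdim] at this
    exact_mod_cast this
  obtain ⟨w, hw⟩ := exists_linearIndependent_of_le_finrank hle
  let θ : X.left.presheaf.stalk p →+* SQ k g :=
    { toFun := fun a => TrivSqZeroExt.inl (res.hom a) + TrivSqZeroExt.inr fun j => (w j).1 a
      map_one' := by
        ext j
        · simp
        · have h := (w j).2.2.1 1 1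
          rw [_root_.mul_one, map_one, _root_.one_mul] at h
          simp [left_eq_add.1 h]
      map_zero' := by
        ext j
        · simp
        · have h := (w j).2.1 0 0
          rw [add_zero] at h
          simp [left_eq_add.1 h]
      map_add' := fun a b => by
        ext j
        · simp
        · simp [(w j).2.1]
      map_mul' := fun a b => by
        ext j
        · simp
        · simp [(w j).2.2.1, snd_mul_apply] }
  have hθσ : θ.comp σO.hom = sqσ g (RingHom.id k) := by
    ext c j
    · simp [θ, hres, incl]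
    · simp [θ, (w j).2.2.2, incl]
  let v : SP (sqσ g (RingHom.id k)) ⟶ X :=
    Over.homMk (Spec.map (CommRingCat.ofHom θ) ≫ X.left.fromSpecStalk p) (by
      change _ ≫ X.hom = Spec.map _
      rw [Category.assoc, ← hσO, ← Spec.map_comp, ← hθσ, CommRingCat.ofHom_comp]
      rfl)
  have hfac : Spec.map res ≫ X.left.fromSpecStalk p = e :=
    Scheme.Spec_stalkClosedPointTo_fromSpecStalk e
  refine ⟨⟨v, ?_, ?_⟩⟩
  · ext : 1
    rw [hone, ← hfac]
    change Spec.map _ ≫ Spec.map _ ≫ _ = _
    rw [← Category.assoc, ← Category.assoc, ← Spec.map_comp, ← Spec.map_comp]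
    congr 2
    ext a
    simp [θ, pr]
  · intro L _ σ c h
    have h1 := congrArg (fun q => CommaMorphism.left q) h
    change (mk _ _ ≫ v).left = (1 : SP _ ⟶ X).left at h1
    rw [hone, ← hfac] at h1
    change Spec.map _ ≫ Spec.map _ ≫ _ = _ at h1
    rw [← Category.assoc, ← Category.assoc, ← Spec.map_comp, ← Spec.map_comp, cancel_mono] at h1
    have h2 := congrArg CommRingCat.Hom.hom (Spec.map_injective h1)
    have h3 : ∀ a, ∑ j, c j * σ ((w j).1 a) = 0 := fun a => by
      have := congrArg TrivSqZeroExt.snd (RingHom.congr_fun h2 a)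
      simpa [θ] using this
    letI : Algebra k L := σ.toAlgebra
    funext j
    refine (Module.forall_dual_apply_eq_zero_iff k (c j)).1 fun φ => ?_
    have hz : ∑ i, φ (c i) • w i = 0 := by
      refine Subtype.ext (funext fun a => ?_)
      have := congrArg φ (h3 a)
      rw [map_sum, map_zero] at this
      rw [Submodule.coe_sum, Finset.sum_apply]
      refine Eq.trans (Finset.sum_congr rfl fun i _ => ?_) this
      rw [mul_comm (c i), ← RingHom.algebraMap_toAlgebra σ, ← Algebra.smul_def, map_smul]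
      simp [mul_comm]
    exact Fintype.linearIndependent_iff.1 hw _ hz j

end Groth.Agent.Lib.AVEmb92.Tangent
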