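import Groth.Agent.Lib.AVEmb92.Chart
import Groth.Agent.Lib.AVEmb92.Tangent
import Mathlib.AlgebraicGeometry.ValuativeCriterion
import Mathlib.RingTheory.Valuation.LocalSubring
import Mathlib.Algebra.BigOperators.Field

/-!
# Tangent frames of a closed subgroup scheme of projective space
-/

set_option autoImplicit false

noncomputable section

universe u

open CategoryTheory CategoryTheory.Limits MonoidalCategory CartesianMonoidalCategory MonObj GrpObj
  AlgebraicGeometry

namespace Groth.Agent.Lib.AVEmb92.Core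

open Sq Tangent Chart

variable {k : Type u} [Field k] {X : Over (Spec (CommRingCat.of k))} [GrpObj X] {g n : ℕ}
  (F : Frame X g) (f : X.left ⟶ Proj (CohB1.polyGrading n k))

variable {A B : Type u} [CommRing A] [CommRing B] {σ : k →+* A} {τ : k →+* B}

/-- Coordinates of a point together with the translated frame. -/
def Lifted (x : SP σ ⟶ X) (m : Fin (n + 1)) (Φ : AW k n m →+* SQ A g) : Prop :=
  IsLift ((push F x).left ≫ f) m Φ

variable {F f} {x : SP σ ⟶ X} {m i : Fin (n + 1)} {Φ : AW k n m →+* SQ A g}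

lemma Lifted.map (h : Lifted F f x m Φ) (χ : A →+* B) (hχ : χ.comp σ = τ) :
    Lifted F f (mk χ hχ ≫ x) m ((Sq.map χ).comp Φ) := by
  rw [Lifted, ← map_push F x χ hχ, Over.comp_left, Category.assoc]
  exact IsLift.map h (Sq.map χ)

lemma Lifted.fst (h : Lifted F f x m Φ) : IsLift (x.left ≫ f) m ((pr g).comp Φ) := by
  conv => arg 1; rw [← pr_push F x, Over.comp_left, Category.assoc]
  exact IsLift.map h (pr g)

lemma exists_lifted (hx : Set.range (x.left ≫ f) ⊆ ((Proj.basicOpen (CohB1.polyGrading n k)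
      (MvPolynomial.X m) : (Proj (CohB1.polyGrading n k)).Opens) : Set (Proj (CohB1.polyGrading n k)))) :
    ∃ Φ : AW k n m →+* SQ A g, Lifted F f x m Φ := by
  refine IsLift.exists_of_range ?_
  rintro _ ⟨p, rfl⟩
  obtain ⟨q, rfl⟩ := comap_pr_surjective (A := A) (g := g) p
  refine hx ⟨q, ?_⟩
  conv_lhs => rw [← pr_push F x]
  rfl

lemma exists_lifted_local [IsLocalRing A] (x : SP σ ⟶ X) :
    ∃ (m : Fin (n + 1)) (Φ : AW k n m →+* SQ A g), Lifted F f x m Φ := by
  obtain ⟨m, φ, hφ⟩ := Chart.exists_lift (x.left ≫ f)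
  refine ⟨m, exists_lifted ?_⟩
  rw [← hφ, ← Proj.opensRange_awayι _ _ (Chart.X_mem m) one_pos]
  rintro _ ⟨p, rfl⟩
  exact ⟨_, rfl⟩

variable (hf : f ≫ Proj.toSpecZero (CohB1.polyGrading n k) ≫
  Spec.map (CommRingCat.ofHom (algebraMap k (CohB1.polyGrading n k 0))) = X.hom)

include hf

lemma Lifted.cst_eq (h : Lifted F f x m Φ) (c : k) : Φ (cst m c) = sqσ g σ c := by
  refine IsLift.cst_eq h ?_ c
  rw [Category.assoc, hf]
  exact Over.w (push F x)

lemma Lifted.indep [IsClosedImmersion f] {L : Type u} [Field L] {σ : k →+* L} {x : SP σ ⟶ X}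
    {Φ : AW k n m →+* SQ L g} (h : Lifted F f x m Φ) (c : Fin g → L)
    (hc : ∀ l, ∑ j, c j * (Φ (co m l)).snd j = 0) : c = 0 := by
  refine eq_zero_of_contract F x c ?_
  ext : 1
  rw [← cancel_mono f, Over.comp_left, Over.comp_left, Category.assoc, Category.assoc]
  have e : (contract c).comp Φ = (TrivSqZeroExt.inlHom L L).comp ((pr g).comp Φ) := by
    refine Chart.hom_ext (fun a => ?_) fun l => ?_
    · simp only [RingHom.comp_apply, h.cst_eq hf]
      ext <;> simp [incl, pr]
    · simp only [RingHom.comp_apply]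
      ext
      · simp [pr]
      · simpa [pr] using hc l
  refine ((IsLift.map h (contract c)).symm.trans ?_).trans (IsLift.map h.fst (TrivSqZeroExt.inlHom L L))
  rw [e]

omit hf

lemma mem_of_isIntegralElem {K : Type u} [Field K] {σ : k →+* K} (V : ValuationSubring K)
    (hV : ∀ c, σ c ∈ V) {a : K} (ha : σ.IsIntegralElem a) : a ∈ V := by
  obtain ⟨p, hp, hpa⟩ := ha
  let σV : k →+* V := σ.codRestrict V.toSubring hV
  have hint : IsIntegral V a :=
    ⟨p.map σV, hp.map _, by rw [Polynomial.eval₂_map]; exact hpa⟩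
  obtain ⟨b, hb⟩ := (IsIntegrallyClosedIn.isIntegral_iff (R := V) (A := K)).1 hint
  exact hb ▸ b.2

/-- Coefficients with respect to a residually independent family are integral. -/
lemma coeff_mem {K : Type u} [Field K] (V : ValuationSubring K) (D : Fin (n + 1) → Fin g → V)
    (hD : ∀ c : Fin g → IsLocalRing.ResidueField V,
      (∀ l, ∑ j, c j * IsLocalRing.residue V (D l j) = 0) → c = 0)
    (ν : Fin g → K) (hν : ∀ l, ∑ j, ν j * (D l j : K) ∈ V) (j : Fin g) : ν j ∈ V := by
  haveI : Nonempty (Fin g) := ⟨j⟩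
  obtain ⟨j₀, hj₀⟩ := Finite.exists_max fun j => V.valuation (ν j)
  by_contra hj
  have hlt : 1 < V.valuation (ν j₀) :=
    (not_le.1 (mt (V.valuation_le_one_iff _).1 hj)).trans_le (hj₀ j)
  have h0 : ν j₀ ≠ 0 := fun h => by simp [h] at hlt
  have hmem : ∀ i, ν i / ν j₀ ∈ V := fun i => by
    rw [← V.valuation_le_one_iff, map_div₀]
    exact div_le_one_of_le₀ (hj₀ i) zero_le
  have hc := hD (fun i => IsLocalRing.residue V ⟨ν i / ν j₀, hmem i⟩) fun l => by
    simp only [← map_mul, ← map_sum]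
    rw [IsLocalRing.residue_eq_zero_iff, V.valuation_lt_one_iff]
    have e : ((∑ i, (⟨ν i / ν j₀, hmem i⟩ : V) * D l i : V) : K) =
        (∑ i, ν i * (D l i : K)) / ν j₀ := by
      rw [AddSubmonoidClass.coe_finsetSum, Finset.sum_div]
      exact Finset.sum_congr rfl fun i _ => by push_cast; ring
    rw [e, map_div₀, div_lt_one₀ (zero_lt_one.trans hlt)]
    exact ((V.valuation_le_one_iff _).2 (hν l)).trans_lt hlt
  have h1 := congrFun hc j₀
  simp only [div_self h0, Pi.zero_apply] at h1
  exact one_ne_zero ((map_one (IsLocalRing.residue V)).symm.trans h1)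

include hf

/-- A vector in the span of a point and its frame with algebraic coordinates forces an algebraic point. -/
theorem isIntegralElem_mul [IsProper X.hom] [IsClosedImmersion f] {K : Type u} [Field K]
    {σ : k →+* K} {x : SP σ ⟶ X} {Φ : AW k n i →+* SQ K g} (h : Lifted F f x i Φ) (ν : Fin g → K)
    (ha : ∀ l, σ.IsIntegralElem ((Φ (co i l)).fst + ∑ j, ν j * (Φ (co i l)).snd j))
    (j₁ : Fin g) (l₁ : Fin (n + 1)) : σ.IsIntegralElem (ν j₁ * (Φ (co i l₁)).fst) := by
  letI : Algebra k K := σ.toAlgebra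
  change IsIntegral k _
  suffices hV : ∀ V : ValuationSubring K, Set.range σ ⊆ (V.toSubring : Set K) →
      ν j₁ * (Φ (co i l₁)).fst ∈ V by
    have h1 : ν j₁ * (Φ (co i l₁)).fst ∈
        (⨅ V : {V : ValuationSubring K // Set.range σ ⊆ V.toSubring}, V.1.toSubring) :=
      Subring.mem_iInf.2 fun V => hV V.1 V.2
    rw [iInf_valuationSubring_superset] at h1
    obtain ⟨p, hp, hpe⟩ := h1
    let S := Subring.closure (Set.range σ)
    have hS : S ≤ σ.range := Subring.closure_le.2 fun _ ha => ha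
    have hl : p.map S.subtype ∈ Polynomial.lifts σ := by
      rw [Polynomial.lifts_iff_coeff_lifts]
      intro e
      rw [Polynomial.coeff_map]
      exact hS (p.coeff e).2
    obtain ⟨q, hq, -, hqm⟩ := Polynomial.lifts_and_natDegree_eq_and_monic hl (hp.map _)
    refine ⟨q, hqm, ?_⟩
    change Polynomial.eval₂ σ _ q = 0
    rw [← Polynomial.eval_map, hq, Polynomial.eval_map]
    exact hpe
  intro V hσV
  let σV : k →+* V := σ.codRestrict V.toSubring fun c => hσV ⟨c, rfl⟩
  have hσ : V.subtype.comp σV = σ := rfl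
  let S : ValuativeCommSq X.hom :=
    { R := V, K := K, i₁ := x.left, i₂ := Spec.map (CommRingCat.ofHom σV)
      commSq := ⟨by rw [← Spec.map_comp, ← CommRingCat.ofHom_comp]; exact Over.w x⟩ }
  have hex : ValuativeCriterion.Existence X.hom := by
    have h1 : UniversallyClosed X.hom := inferInstance
    rw [UniversallyClosed.eq_valuativeCriterion] at h1
    exact h1.1
  obtain ⟨⟨lft⟩⟩ := hex S
  let xV : SP σV ⟶ X := Over.homMk lft.l lft.fac_right
  have hx : mk V.subtype hσ ≫ xV = x := by ext : 1; exact lft.fac_left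
  obtain ⟨m, Ψ, hΨ⟩ := exists_lifted_local (F := F) (f := f) xV
  have hΨK := hΨ.map V.subtype hσ
  rw [hx] at hΨK
  -- notation
  let y := fun l => (Φ (co i l)).fst
  let z := fun l => ((Ψ (co m l)).fst : K)
  let dz := fun (l : Fin (n + 1)) (j : Fin g) => ((Ψ (co m l)).snd j : K)
  have e1 : ∀ l, y l * z i = z l := fun l => by
    have := congrArg TrivSqZeroExt.fst (IsLift.co_mul hΨK h l)
    simpa [y, z] using this
  have e2 : ∀ l j, y l * dz i j + z i * (Φ (co i l)).snd j = dz l j := fun l j => by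
    have := congrArg (fun w : SQ K g => TrivSqZeroExt.snd w j) (IsLift.co_mul hΨK h l)
    simpa [y, z, dz, snd_mul_apply] using this
  have hzm : z m = 1 := by simp [z, co_self]
  have hdzm : ∀ j, dz m j = 0 := fun j => by simp [dz, co_self]
  have ht : z i ≠ 0 := fun ht => one_ne_zero (hzm.symm.trans ((e1 m).symm.trans (by rw [ht, mul_zero])))
  let a := fun l => y l + ∑ j, ν j * (Φ (co i l)).snd j
  have key : ∀ l, z i * a l = z l + ∑ j, ν j * dz l j - y l * ∑ j, ν j * dz i j := fun l => by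
    simp only [a, mul_add, Finset.mul_sum, ← e1 l]
    rw [mul_comm (z i), add_sub_assoc, ← Finset.sum_sub_distrib]
    congr 1
    exact Finset.sum_congr rfl fun j _ => by rw [← e2 l j]; ring
  have sys : ∀ l, ∑ j, ν j / z i * dz l j = a l - a m * z l := fun l => by
    have hl := key l
    have hm := key m
    simp only [hdzm, mul_zero, Finset.sum_const_zero, add_zero, hzm] at hm
    have hy : y m * z i = 1 := (e1 m).trans hzm
    rw [show ∑ j, ν j / z i * dz l j = (∑ j, ν j * dz l j) / z i from by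
      rw [Finset.sum_div]; exact Finset.sum_congr rfl fun j _ => by ring]
    rw [div_eq_iff ht]
    generalize ∑ j, ν j * dz l j = T at hl ⊢
    generalize ∑ j, ν j * dz i j = U at hl hm ⊢
    linear_combination -1 * hl + z l * hm + U * (e1 l) * y m - U * y l * hy
  have haV : ∀ l, a l ∈ V := fun l => mem_of_isIntegralElem V (fun c => hσV ⟨c, rfl⟩) (ha l)
  have hν : ν j₁ / z i ∈ V := by
    refine coeff_mem V (fun l j => (Ψ (co m l)).snd j) (fun c hc => ?_) (fun j => ν j / z i)
      (fun l => ?_) j₁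
    · refine (hΨ.map (IsLocalRing.residue V) rfl).indep hf c fun l => ?_
      simpa using hc l
    · rw [sys]
      exact sub_mem (haV l) (mul_mem (haV m) (Ψ (co m l)).fst.2)
  have : ν j₁ * y l₁ = ν j₁ / z i * z l₁ := by rw [← e1 l₁]; field_simp
  change ν j₁ * y l₁ ∈ V
  rw [this]
  exact mul_mem hν (Ψ (co m l₁)).fst.2

/-- All coordinates are algebraic. -/
theorem isIntegralElem_all [IsProper X.hom] [IsClosedImmersion f] {K : Type u} [Field K]
    {σ : k →+* K} {x : SP σ ⟶ X} {Φ : AW k n i →+* SQ K g} (h : Lifted F f x i Φ) (ν : Fin g → K)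
    (ha : ∀ l, σ.IsIntegralElem ((Φ (co i l)).fst + ∑ j, ν j * (Φ (co i l)).snd j)) :
    (∀ l, σ.IsIntegralElem (Φ (co i l)).fst) ∧ ∀ j, σ.IsIntegralElem (ν j) := by
  letI : Algebra k K := σ.toAlgebra
  change (∀ l, IsIntegral k (Φ (co i l)).fst) ∧ ∀ j, IsIntegral k (ν j)
  have hν : ∀ j, IsIntegral k (ν j) := fun j => by
    have := isIntegralElem_mul hf h ν ha j i
    show σ.IsIntegralElem (ν j)
    simpa [co_self] using this
  refine ⟨fun l => ?_, hν⟩
  by_cases h0 : ν = 0
  · have hl : IsIntegral k ((Φ (co i l)).fst + ∑ j, ν j * (Φ (co i l)).snd j) := ha l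
    simpa [h0] using hl
  · obtain ⟨j, hj⟩ := Function.ne_iff.1 h0
    have h1 : IsIntegral k (ν j * (Φ (co i l)).fst) := isIntegralElem_mul hf h ν ha j l
    have h2 : IsIntegral k ((ν j)⁻¹) := (hν j).inv
    have := h2.mul h1
    rwa [inv_mul_cancel_left₀ hj] at this

end Groth.Agent.Lib.AVEmb92.Core
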