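import Mathlib.RingTheory.DualNumber
import Mathlib.Algebra.TrivSqZeroExt.Basic
import Mathlib.RingTheory.Spectrum.Prime.RingHom
import Mathlib.AlgebraicGeometry.Scheme

/-!
# The trivial square-zero extension by `g` infinitesimal directions
-/

set_option autoImplicit false

noncomputable section

universe u

namespace Groth.Agent.Lib.AVEmb92.Sq

variable {g : ℕ}

/-- `A ⊕ A^g`. -/
abbrev SQ (A : Type u) (g : ℕ) : Type u := TrivSqZeroExt A (Fin g → A)

variable {A B C : Type u} [CommRing A] [CommRing B] [CommRing C]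

/-- Constant part. -/
def pr (g : ℕ) : SQ A g →+* A where
  toFun := TrivSqZeroExt.fst
  map_one' := rfl
  map_mul' _ _ := rfl
  map_zero' := rfl
  map_add' _ _ := rfl

/-- Constants. -/
def incl (g : ℕ) : A →+* SQ A g := TrivSqZeroExt.inlHom A (Fin g → A)

@[simp] lemma pr_incl (a : A) : pr g (incl g a) = a := rfl

lemma snd_mul_apply (x y : SQ A g) (j : Fin g) :
    (x * y).snd j = x.fst * y.snd j + y.fst * x.snd j := by
  rw [TrivSqZeroExt.snd_mul]
  simp [mul_comm]

/-- Functoriality. -/
def map (χ : A →+* B) : SQ A g →+* SQ B g where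
  toFun x := TrivSqZeroExt.inl (χ x.fst) + TrivSqZeroExt.inr (fun j => χ (x.snd j))
  map_one' := by ext <;> simp
  map_zero' := by ext <;> simp
  map_add' x y := by ext <;> simp
  map_mul' x y := by
    ext j
    · simp
    · simp [snd_mul_apply]

@[simp] lemma fst_map (χ : A →+* B) (x : SQ A g) : (map χ x).fst = χ x.fst := by simp [map]
@[simp] lemma snd_map (χ : A →+* B) (x : SQ A g) (j : Fin g) : (map χ x).snd j = χ (x.snd j) := by
  simp [map]

lemma map_incl (χ : A →+* B) : (map χ).comp (incl g) = (incl g).comp χ := by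
  ext a j <;> simp [incl]

lemma pr_map (χ : A →+* B) : (pr g).comp (map χ) = χ.comp (pr g) := by
  ext a
  exact fst_map χ a

/-- Contraction with a tangent vector. -/
def contract (c : Fin g → A) : SQ A g →+* DualNumber A where
  toFun x := TrivSqZeroExt.inl x.fst + TrivSqZeroExt.inr (∑ j, c j * x.snd j)
  map_one' := by ext <;> simp
  map_zero' := by ext <;> simp
  map_add' x y := by ext <;> simp [mul_add, Finset.sum_add_distrib]
  map_mul' x y := by
    ext
    · simp
    · simp only [TrivSqZeroExt.snd_add, TrivSqZeroExt.snd_inl, zero_add, TrivSqZeroExt.snd_inr,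
        snd_mul_apply, TrivSqZeroExt.snd_mul, TrivSqZeroExt.fst_add, TrivSqZeroExt.fst_inl,
        TrivSqZeroExt.fst_inr, add_zero, smul_eq_mul, MulOpposite.smul_eq_mul_unop,
        MulOpposite.unop_op, Finset.mul_sum, Finset.sum_mul, ← Finset.sum_add_distrib]
      exact Finset.sum_congr rfl fun j _ => by ring

@[simp] lemma fst_contract (c : Fin g → A) (x : SQ A g) : (contract c x).fst = x.fst := by simp [contract]
@[simp] lemma snd_contract (c : Fin g → A) (x : SQ A g) : (contract c x).snd = ∑ j, c j * x.snd j := by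
  simp [contract]

lemma comap_pr_surjective : Function.Surjective (PrimeSpectrum.comap (pr (A := A) g)) := by
  intro p
  refine ⟨PrimeSpectrum.comap (incl g) p, PrimeSpectrum.ext (Ideal.ext fun x => ?_)⟩
  change incl g x.fst ∈ p.asIdeal ↔ x ∈ p.asIdeal
  have hn : TrivSqZeroExt.inr x.snd ∈ p.asIdeal := by
    refine p.isPrime.mem_of_pow_mem 2 ?_
    rw [pow_two, TrivSqZeroExt.inr_mul_inr]
    exact zero_mem _
  conv_rhs => rw [← TrivSqZeroExt.inl_fst_add_inr_snd_eq x, Ideal.add_mem_iff_left _ hn]
  rfl

end Groth.Agent.Lib.AVEmb92.Sq
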